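import Mathlib

/-!
# Changing the base of `H¹` of the cotangent complex along a formally étale map
-/

set_option autoImplicit false
set_option backward.isDefEq.respectTransparency false
set_option backward.defeqAttrib.useBackward true
set_option linter.style.haveILetI false

universe u

open Algebra TensorProduct

namespace Groth.Agent.NLSheafLib

/-- A formally étale map of bases does not change `H¹` of the cotangent complex. -/
theorem bijective_h1Map_of_formallyEtale (R S T : Type u) [CommRing R] [CommRing S] [CommRing T] [Algebra R S]
    [Algebra S T] [Algebra R T] [IsScalarTower R S T] [Algebra.FormallyEtale R S] :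
    Function.Bijective (Algebra.H1Cotangent.map R S T T) := by
  let P := Generators.self R S
  let Q := Generators.self S T
  let W := Generators.self R T
  have hP : Function.Bijective P.toExtension.cotangentComplex := by
    refine ⟨(Extension.subsingleton_h1Cotangent P.toExtension).1
      (inferInstance : Subsingleton (H1Cotangent R S)), fun x => ?_⟩
    exact (P.toExtension.exact_cotangentComplex_toKaehler x).1 (Subsingleton.elim _ _)
  have hPT : Function.Injective (P.toExtension.cotangentComplex.baseChange T) := by
    have : P.toExtension.cotangentComplex.baseChange T =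
        (LinearMap.lTensor T (LinearEquiv.ofBijective _ hP).toLinearMap) := rfl
    intro a b h
    exact (LinearEquiv.lTensor T (LinearEquiv.ofBijective _ hP)).injective h
  let g := Extension.H1Cotangent.map (Q.ofComp P).toExtensionHom
  have hg : Function.Bijective g := by
    constructor
    · rw [injective_iff_map_eq_zero]
      rintro ⟨x, x_in⟩ hx
      replace hx : Extension.Cotangent.map (Q.ofComp P).toExtensionHom x = 0 := congrArg Subtype.val hx
      obtain ⟨y, rfl⟩ := (Generators.Cotangent.exact Q P x).1 hx
      have h1 := LinearMap.congr_fun (Generators.H1Cotangent.map_comp_cotangentComplex_baseChange Q P) y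
      rw [LinearMap.comp_apply, LinearMap.comp_apply, LinearMap.mem_ker.1 x_in] at h1
      have h2 : P.toExtension.cotangentComplex.baseChange T y = 0 :=
        Generators.CotangentSpace.map_toComp_injective Q P (h1.trans (map_zero _).symm)
      refine Subtype.ext ?_
      show LinearMap.liftBaseChange T _ y = 0
      rw [hPT (h2.trans (map_zero _).symm), map_zero]
    · intro z
      exact (Generators.H1Cotangent.exact_map_δ Q P z).1 (Subsingleton.elim _ _)
  let f := (Generators.defaultHom W Q).toExtensionHom
  let e := Generators.H1Cotangent.equiv W (Q.comp P)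
  have he : ∀ x, Algebra.H1Cotangent.map R S T T x = g (e x) := fun x => by
    show Extension.H1Cotangent.map f x = Extension.H1Cotangent.map _ (Extension.H1Cotangent.map _ x)
    rw [← Extension.H1Cotangent.map_comp_apply, Extension.H1Cotangent.map_eq f]
  rw [show (Algebra.H1Cotangent.map R S T T : _ → _) = g ∘ e from funext he]
  exact hg.comp e.bijective

/-- The maps of `H¹` of the cotangent complex compose. -/
theorem h1Map_comp {A₁ A₂ A₃ B₁ B₂ B₃ : Type u} [CommRing A₁] [CommRing A₂] [CommRing A₃] [CommRing B₁] [CommRing B₂]
    [CommRing B₃] [Algebra A₁ B₁] [Algebra A₂ B₂] [Algebra A₃ B₃] [Algebra A₁ A₂] [Algebra A₂ A₃] [Algebra A₁ A₃]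
    [IsScalarTower A₁ A₂ A₃] [Algebra B₁ B₂] [Algebra B₂ B₃] [Algebra B₁ B₃] [IsScalarTower B₁ B₂ B₃]
    [Algebra A₁ B₂] [IsScalarTower A₁ A₂ B₂] [IsScalarTower A₁ B₁ B₂]
    [Algebra A₂ B₃] [IsScalarTower A₂ A₃ B₃] [IsScalarTower A₂ B₂ B₃]
    [Algebra A₁ B₃] [IsScalarTower A₁ A₂ B₃] [IsScalarTower A₁ A₃ B₃] [IsScalarTower A₁ B₁ B₃]
    (x : Algebra.H1Cotangent A₁ B₁) :
    Algebra.H1Cotangent.map A₂ A₃ B₂ B₃ (Algebra.H1Cotangent.map A₁ A₂ B₁ B₂ x) =
      Algebra.H1Cotangent.map A₁ A₃ B₁ B₃ x := by
  show Extension.H1Cotangent.map (Generators.defaultHom (Generators.self A₂ B₂) (Generators.self A₃ B₃)).toExtensionHom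
      (Extension.H1Cotangent.map (Generators.defaultHom (Generators.self A₁ B₁) (Generators.self A₂ B₂)).toExtensionHom x) =
    Extension.H1Cotangent.map (Generators.defaultHom (Generators.self A₁ B₁) (Generators.self A₃ B₃)).toExtensionHom x
  rw [← Extension.H1Cotangent.map_comp_apply]
  exact LinearMap.congr_fun (Extension.H1Cotangent.map_eq _ _) x

/-- The identity square induces the identity. -/
theorem h1Map_id {A B : Type u} [CommRing A] [CommRing B] [Algebra A B] (a : A →+* A) (b : B →+* B)
    (ha : a = RingHom.id A) (hb : b = RingHom.id B) (x : Algebra.H1Cotangent A B) :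
    (letI := a.toAlgebra
     letI := b.toAlgebra
     haveI := IsScalarTower.of_algebraMap_eq' (R := A) (S := A) (A := B) (by subst ha; rfl)
     haveI := IsScalarTower.of_algebraMap_eq' (R := A) (S := B) (A := B) (by subst hb; rfl)
     Algebra.H1Cotangent.map A A B B x) = x := by
  subst ha hb
  show Extension.H1Cotangent.map (Generators.defaultHom (Generators.self A B) (Generators.self A B)).toExtensionHom x = x
  rw [Extension.H1Cotangent.map_eq _ (Extension.Hom.id _), Extension.H1Cotangent.map_id]
  rfl

/-- `bijective_h1Map_of_formallyEtale` for an identity ring map given as data. -/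
theorem bijective_h1Map_of_formallyEtale' (R S T : Type u) [CommRing R] [CommRing S] [CommRing T] [Algebra R S]
    [Algebra S T] [Algebra R T] [IsScalarTower R S T] (b : T →+* T) (hb : b = RingHom.id T)
    [Algebra.FormallyEtale R S] :
    Function.Bijective
      (letI := b.toAlgebra
       haveI := IsScalarTower.of_algebraMap_eq' (R := R) (S := T) (A := T) (by subst hb; rfl)
       Algebra.H1Cotangent.map R S T T) := by
  subst hb
  exact bijective_h1Map_of_formallyEtale R S T

/-- An identity ring map of the base given as data does not change the map of `H¹`. -/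
theorem h1Map_base_id (R S T : Type u) [CommRing R] [CommRing S] [CommRing T] [Algebra R S]
    [Algebra S T] [Algebra R T] [IsScalarTower R S T] (a : R →+* R) (ha : a = RingHom.id R)
    (x : Algebra.H1Cotangent R S) :
    (letI := a.toAlgebra
     haveI := IsScalarTower.of_algebraMap_eq' (R := R) (S := R) (A := T) (by subst ha; rfl)
     Algebra.H1Cotangent.map R R S T x) = Algebra.H1Cotangent.map R R S T x := by
  subst ha
  rfl

end Groth.Agent.NLSheafLib
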