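import Groth.Prelude.Def_SheafNL
import Groth.Agent.NLSheafLib.Ring
import Groth.Agent.QCohLib.Criterion

/-!
# Restriction maps of the `H¹` modules of affine chart pairs
-/

set_option autoImplicit false
set_option backward.isDefEq.respectTransparency false
set_option backward.defeqAttrib.useBackward true
set_option linter.style.haveILetI false
set_option maxHeartbeats 1000000

universe u

open CategoryTheory AlgebraicGeometry Opposite TopologicalSpace

noncomputable section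

namespace Groth.Agent.NLSheafLib

open NLCx

variable {X Y : Scheme.{u}} {f : X ⟶ Y}


theorem hom_map_refl {Z : Scheme.{u}} (F : (Z.Opens)ᵒᵖ ⥤ CommRingCat.{u}) (U : Z.Opens) :
    (F.map (homOfLE (le_refl U)).op).hom = RingHom.id _ := by
  rw [show (homOfLE (le_refl U)).op = 𝟙 (op U) from rfl, F.map_id]
  rfl

theorem res_res {A B C : X.affineOpens} {V V' V'' : Y.affineOpens}
    (e : (A : X.Opens) ≤ f ⁻¹ᵁ (V : Y.Opens)) (e' : (B : X.Opens) ≤ f ⁻¹ᵁ (V' : Y.Opens))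
    (e'' : (C : X.Opens) ≤ f ⁻¹ᵁ (V'' : Y.Opens))
    (hA : (B : X.Opens) ≤ (A : X.Opens)) (hV : (V' : Y.Opens) ≤ (V : Y.Opens))
    (hB : (C : X.Opens) ≤ (B : X.Opens)) (hV' : (V'' : Y.Opens) ≤ (V' : Y.Opens)) (m : ChartH1 f A V e) :
    chartRes e' e'' hB hV' (chartRes e e' hA hV m) = chartRes e e'' (hB.trans hA) (hV'.trans hV) m := by
  letI := (f.appLE (V : Y.Opens) (A : X.Opens) e).hom.toAlgebra
  letI := (f.appLE (V' : Y.Opens) (B : X.Opens) e').hom.toAlgebra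
  letI := (f.appLE (V'' : Y.Opens) (C : X.Opens) e'').hom.toAlgebra
  letI := (f.appLE (V : Y.Opens) (B : X.Opens) (hA.trans e)).hom.toAlgebra
  letI := (f.appLE (V' : Y.Opens) (C : X.Opens) (hB.trans e')).hom.toAlgebra
  letI := (f.appLE (V : Y.Opens) (C : X.Opens) ((hB.trans hA).trans e)).hom.toAlgebra
  letI := (X.presheaf.map (homOfLE hA).op).hom.toAlgebra
  letI := (X.presheaf.map (homOfLE hB).op).hom.toAlgebra
  letI := (X.presheaf.map (homOfLE (hB.trans hA)).op).hom.toAlgebra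
  letI := (Y.presheaf.map (homOfLE hV).op).hom.toAlgebra
  letI := (Y.presheaf.map (homOfLE hV').op).hom.toAlgebra
  letI := (Y.presheaf.map (homOfLE (hV'.trans hV)).op).hom.toAlgebra
  haveI := IsScalarTower.of_algebraMap_eq' (R := Γ(Y, (V : Y.Opens))) (S := Γ(Y, (V' : Y.Opens))) (A := Γ(Y, (V'' : Y.Opens)))
    (by change (Y.presheaf.map _).hom = (Y.presheaf.map _).hom.comp (Y.presheaf.map _).hom
        rw [← CommRingCat.hom_comp, ← Functor.map_comp]; rfl)
  haveI := IsScalarTower.of_algebraMap_eq' (R := Γ(X, (A : X.Opens))) (S := Γ(X, (B : X.Opens))) (A := Γ(X, (C : X.Opens)))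
    (by change (X.presheaf.map _).hom = (X.presheaf.map _).hom.comp (X.presheaf.map _).hom
        rw [← CommRingCat.hom_comp, ← Functor.map_comp]; rfl)
  haveI := IsScalarTower.of_algebraMap_eq' (R := Γ(Y, (V : Y.Opens))) (S := Γ(Y, (V' : Y.Opens))) (A := Γ(X, (B : X.Opens)))
    (by change (f.appLE _ _ _).hom = (f.appLE _ _ _).hom.comp (Y.presheaf.map _).hom
        rw [← CommRingCat.hom_comp, Scheme.Hom.map_appLE])
  haveI := IsScalarTower.of_algebraMap_eq' (R := Γ(Y, (V : Y.Opens))) (S := Γ(X, (A : X.Opens))) (A := Γ(X, (B : X.Opens)))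
    (by change (f.appLE _ _ _).hom = (X.presheaf.map _).hom.comp (f.appLE _ _ _).hom
        rw [← CommRingCat.hom_comp, Scheme.Hom.appLE_map])
  haveI := IsScalarTower.of_algebraMap_eq' (R := Γ(Y, (V' : Y.Opens))) (S := Γ(Y, (V'' : Y.Opens))) (A := Γ(X, (C : X.Opens)))
    (by change (f.appLE _ _ _).hom = (f.appLE _ _ _).hom.comp (Y.presheaf.map _).hom
        rw [← CommRingCat.hom_comp, Scheme.Hom.map_appLE])
  haveI := IsScalarTower.of_algebraMap_eq' (R := Γ(Y, (V' : Y.Opens))) (S := Γ(X, (B : X.Opens))) (A := Γ(X, (C : X.Opens)))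
    (by change (f.appLE _ _ _).hom = (X.presheaf.map _).hom.comp (f.appLE _ _ _).hom
        rw [← CommRingCat.hom_comp, Scheme.Hom.appLE_map])
  haveI := IsScalarTower.of_algebraMap_eq' (R := Γ(Y, (V : Y.Opens))) (S := Γ(Y, (V' : Y.Opens))) (A := Γ(X, (C : X.Opens)))
    (by change (f.appLE _ _ _).hom = (f.appLE _ _ _).hom.comp (Y.presheaf.map _).hom
        rw [← CommRingCat.hom_comp, Scheme.Hom.map_appLE])
  haveI := IsScalarTower.of_algebraMap_eq' (R := Γ(Y, (V : Y.Opens))) (S := Γ(Y, (V'' : Y.Opens))) (A := Γ(X, (C : X.Opens)))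
    (by change (f.appLE _ _ _).hom = (f.appLE _ _ _).hom.comp (Y.presheaf.map _).hom
        rw [← CommRingCat.hom_comp, Scheme.Hom.map_appLE])
  haveI := IsScalarTower.of_algebraMap_eq' (R := Γ(Y, (V : Y.Opens))) (S := Γ(X, (A : X.Opens))) (A := Γ(X, (C : X.Opens)))
    (by change (f.appLE _ _ _).hom = (X.presheaf.map _).hom.comp (f.appLE _ _ _).hom
        rw [← CommRingCat.hom_comp, Scheme.Hom.appLE_map])
  exact h1Map_comp (A₁ := Γ(Y, (V : Y.Opens))) (A₂ := Γ(Y, (V' : Y.Opens))) (A₃ := Γ(Y, (V'' : Y.Opens)))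
    (B₁ := Γ(X, (A : X.Opens))) (B₂ := Γ(X, (B : X.Opens))) (B₃ := Γ(X, (C : X.Opens))) m

theorem res_self {A : X.affineOpens} {V : Y.affineOpens} (e : (A : X.Opens) ≤ f ⁻¹ᵁ (V : Y.Opens))
    (m : ChartH1 f A V e) : chartRes e e le_rfl le_rfl m = m := by
  letI := (f.appLE (V : Y.Opens) (A : X.Opens) e).hom.toAlgebra
  exact h1Map_id (Y.presheaf.map (homOfLE (le_refl (V : Y.Opens))).op).hom
    (X.presheaf.map (homOfLE (le_refl (A : X.Opens))).op).hom
    (hom_map_refl Y.presheaf _) (hom_map_refl X.presheaf _) m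

theorem res_smul {A B : X.affineOpens} {V V' : Y.affineOpens}
    (e : (A : X.Opens) ≤ f ⁻¹ᵁ (V : Y.Opens)) (e' : (B : X.Opens) ≤ f ⁻¹ᵁ (V' : Y.Opens))
    (hA : (B : X.Opens) ≤ (A : X.Opens)) (hV : (V' : Y.Opens) ≤ (V : Y.Opens))
    (a : Γ(X, (A : X.Opens))) (m : ChartH1 f A V e) :
    chartRes e e' hA hV (a • m) = X.presheaf.map (homOfLE hA).op a • chartRes e e' hA hV m := by
  letI := (f.appLE (V : Y.Opens) (A : X.Opens) e).hom.toAlgebra
  letI := (f.appLE (V' : Y.Opens) (B : X.Opens) e').hom.toAlgebra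
  letI := (f.appLE (V : Y.Opens) (B : X.Opens) (hA.trans e)).hom.toAlgebra
  letI := (X.presheaf.map (homOfLE hA).op).hom.toAlgebra
  letI := (Y.presheaf.map (homOfLE hV).op).hom.toAlgebra
  haveI := IsScalarTower.of_algebraMap_eq' (R := Γ(Y, (V : Y.Opens))) (S := Γ(Y, (V' : Y.Opens))) (A := Γ(X, (B : X.Opens)))
    (by change (f.appLE _ _ _).hom = (f.appLE _ _ _).hom.comp (Y.presheaf.map _).hom
        rw [← CommRingCat.hom_comp, Scheme.Hom.map_appLE])
  haveI := IsScalarTower.of_algebraMap_eq' (R := Γ(Y, (V : Y.Opens))) (S := Γ(X, (A : X.Opens))) (A := Γ(X, (B : X.Opens)))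
    (by change (f.appLE _ _ _).hom = (X.presheaf.map _).hom.comp (f.appLE _ _ _).hom
        rw [← CommRingCat.hom_comp, Scheme.Hom.appLE_map])
  refine (map_smul (Algebra.H1Cotangent.map Γ(Y, (V : Y.Opens)) Γ(Y, (V' : Y.Opens)) Γ(X, (A : X.Opens))
    Γ(X, (B : X.Opens))) a m).trans ?_
  exact (IsScalarTower.algebraMap_smul (A := Γ(X, (B : X.Opens))) a
    (Algebra.H1Cotangent.map Γ(Y, (V : Y.Opens)) Γ(Y, (V' : Y.Opens)) Γ(X, (A : X.Opens)) Γ(X, (B : X.Opens)) m)).symm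

theorem formallyEtale_restrict {V V' : Y.affineOpens} (hV : (V' : Y.Opens) ≤ (V : Y.Opens)) :
    letI := (Y.presheaf.map (homOfLE hV).op).hom.toAlgebra
    Algebra.FormallyEtale Γ(Y, (V : Y.Opens)) Γ(Y, (V' : Y.Opens)) := by
  letI := (Y.presheaf.map (homOfLE hV).op).hom.toAlgebra
  have h := HasRingHomProperty.appLE (P := @AlgebraicGeometry.Etale) (𝟙 Y) inferInstance V V' hV
  have hi : (𝟙 Y : Y ⟶ Y).appLE (V : Y.Opens) (V' : Y.Opens) hV = Y.presheaf.map (homOfLE hV).op := by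
    simp [Scheme.Hom.appLE]
  rw [hi] at h
  haveI : Algebra.Etale Γ(Y, (V : Y.Opens)) Γ(Y, (V' : Y.Opens)) := RingHom.etale_algebraMap.1 h
  infer_instance

theorem res_bijective {A : X.affineOpens} {V V' : Y.affineOpens}
    (e : (A : X.Opens) ≤ f ⁻¹ᵁ (V : Y.Opens)) (e' : (A : X.Opens) ≤ f ⁻¹ᵁ (V' : Y.Opens))
    (hV : (V' : Y.Opens) ≤ (V : Y.Opens)) : Function.Bijective (chartRes e e' le_rfl hV) := by
  letI := (f.appLE (V : Y.Opens) (A : X.Opens) e).hom.toAlgebra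
  letI := (f.appLE (V' : Y.Opens) (A : X.Opens) e').hom.toAlgebra
  letI := (Y.presheaf.map (homOfLE hV).op).hom.toAlgebra
  haveI := formallyEtale_restrict hV
  haveI := IsScalarTower.of_algebraMap_eq' (R := Γ(Y, (V : Y.Opens))) (S := Γ(Y, (V' : Y.Opens))) (A := Γ(X, (A : X.Opens)))
    (by change (f.appLE _ _ _).hom = (f.appLE _ _ _).hom.comp (Y.presheaf.map _).hom
        rw [← CommRingCat.hom_comp, Scheme.Hom.map_appLE])
  exact bijective_h1Map_of_formallyEtale' Γ(Y, (V : Y.Opens)) Γ(Y, (V' : Y.Opens)) Γ(X, (A : X.Opens))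
    (X.presheaf.map (homOfLE (le_refl (A : X.Opens))).op).hom
    (hom_map_refl X.presheaf _)

theorem res_basicOpen {A D : X.affineOpens} {V : Y.affineOpens} (g : Γ(X, (A : X.Opens)))
    (hD : (D : X.Opens) = X.basicOpen g) (e : (A : X.Opens) ≤ f ⁻¹ᵁ (V : Y.Opens))
    (e' : (D : X.Opens) ≤ f ⁻¹ᵁ (V : Y.Opens)) (hA : (D : X.Opens) ≤ (A : X.Opens)) :
    (∀ m : ChartH1 f A V e, chartRes e e' hA le_rfl m = 0 → ∃ n : ℕ, g ^ n • m = 0) ∧
      (∀ t : ChartH1 f D V e', ∃ (n : ℕ) (m : ChartH1 f A V e),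
        chartRes e e' hA le_rfl m = X.presheaf.map (homOfLE hA).op (g ^ n) • t) := by
  letI := (f.appLE (V : Y.Opens) (A : X.Opens) e).hom.toAlgebra
  letI := (f.appLE (V : Y.Opens) (D : X.Opens) e').hom.toAlgebra
  letI := (X.presheaf.map (homOfLE hA).op).hom.toAlgebra
  haveI := IsScalarTower.of_algebraMap_eq' (R := Γ(Y, (V : Y.Opens))) (S := Γ(X, (A : X.Opens))) (A := Γ(X, (D : X.Opens)))
    (by change (f.appLE _ _ _).hom = (X.presheaf.map _).hom.comp (f.appLE _ _ _).hom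
        rw [← CommRingCat.hom_comp, Scheme.Hom.appLE_map])
  haveI : IsLocalization.Away g Γ(X, (D : X.Opens)) := A.2.isLocalization_of_eq_basicOpen g (homOfLE hA) hD
  have hloc := Algebra.H1Cotangent.isLocalizedModule (R := Γ(Y, (V : Y.Opens))) (T := Γ(X, (D : X.Opens)))
    (Submonoid.powers g)
  have key : ∀ m : ChartH1 f A V e, chartRes e e' hA le_rfl m =
      Algebra.H1Cotangent.map Γ(Y, (V : Y.Opens)) Γ(Y, (V : Y.Opens)) Γ(X, (A : X.Opens)) Γ(X, (D : X.Opens)) m := by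
    intro m
    exact h1Map_base_id Γ(Y, (V : Y.Opens)) Γ(X, (A : X.Opens)) Γ(X, (D : X.Opens))
      (Y.presheaf.map (homOfLE (le_refl (V : Y.Opens))).op).hom (hom_map_refl Y.presheaf _) m
  constructor
  · intro m hm
    rw [key] at hm
    obtain ⟨⟨_, n, rfl⟩, hn⟩ := (hloc.exists_of_eq (x₁ := m) (x₂ := 0) (hm.trans (map_zero _).symm))
    exact ⟨n, hn.trans (smul_zero _)⟩
  · intro t
    obtain ⟨⟨m, ⟨_, n, rfl⟩⟩, hm⟩ := hloc.surj t
    refine ⟨n, m, (key m).trans ?_⟩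
    exact hm.symm.trans (IsScalarTower.algebraMap_smul (A := Γ(X, (D : X.Opens))) (g ^ n) t).symm

end Groth.Agent.NLSheafLib
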