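import Mathlib

/-!
# The class in `H¹` of the cotangent complex of an element of the kernel
-/

set_option autoImplicit false
set_option backward.isDefEq.respectTransparency false
set_option backward.defeqAttrib.useBackward true
set_option linter.style.haveILetI false

universe u

open Algebra MvPolynomial

namespace Groth.Agent.NLSheafLib

variable {A B : Type u} [CommRing A] [CommRing B] [Algebra A B]

theorem C_mem_ker {a : A} (ha : algebraMap A B a = 0) :
    (C a : (Generators.self A B).Ring) ∈ (Generators.self A B).ker := by
  rw [Generators.ker_eq_ker_aeval_val, RingHom.mem_ker, aeval_C]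
  exact ha

/-- The class of an element of the kernel. -/
noncomputable def cls (a : A) (ha : algebraMap A B a = 0) : Algebra.H1Cotangent A B :=
  ⟨Extension.Cotangent.mk ⟨C a, C_mem_ker ha⟩, Extension.Cotangent.mk_C_mem_ker_cotangentComplex _ (C_mem_ker ha)⟩

theorem cls_eq {a a' : A} (h : a = a') (ha : algebraMap A B a = 0) :
    cls a ha = cls a' (h ▸ ha) := by subst h; rfl

theorem cls_add (a b : A) (ha : algebraMap A B a = 0) (hb : algebraMap A B b = 0) :
    cls (a + b) (by rw [map_add, ha, hb, add_zero]) = cls a ha + cls b hb := by
  refine Subtype.ext (Eq.trans ?_ (map_add Extension.Cotangent.mk _ _))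
  exact congrArg Extension.Cotangent.mk (Subtype.ext (map_add C a b))

theorem cls_mul (c a : A) (ha : algebraMap A B a = 0) :
    cls (c * a) (by rw [map_mul, ha, mul_zero]) = algebraMap A B c • cls a ha := by
  refine Subtype.ext ?_
  show Extension.Cotangent.mk _ = algebraMap A B c • Extension.Cotangent.mk (P := (Generators.self A B).toExtension) _
  refine Eq.trans ?_ (congrArg (fun r : B => r • Extension.Cotangent.mk (P := (Generators.self A B).toExtension)
    ⟨C a, C_mem_ker ha⟩) (aeval_C (Generators.self A B).val c))
  refine Eq.trans ?_ (IsScalarTower.algebraMap_smul (R := (Generators.self A B).toExtension.Ring) (A := B) (C c)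
    (Extension.Cotangent.mk (P := (Generators.self A B).toExtension) ⟨C a, C_mem_ker ha⟩)).symm
  rw [← map_smul]
  exact congrArg Extension.Cotangent.mk (Subtype.ext (map_mul C c a))

variable {A' B' : Type u} [CommRing A'] [CommRing B'] [Algebra A' B'] [Algebra A A'] [Algebra B B'] [Algebra A B']
  [IsScalarTower A A' B'] [IsScalarTower A B B']

theorem map_cls (a : A) (ha : algebraMap A B a = 0) :
    Algebra.H1Cotangent.map A A' B B' (cls a ha) = cls (algebraMap A A' a) (by
      rw [← IsScalarTower.algebraMap_apply, IsScalarTower.algebraMap_apply A B B', ha, map_zero]) := by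
  refine Subtype.ext ?_
  refine (Extension.Cotangent.map_mk _ _).trans (congrArg Extension.Cotangent.mk (Subtype.ext ?_))
  show (Generators.defaultHom (Generators.self A B) (Generators.self A' B')).toAlgHom (C a) = C (algebraMap A A' a)
  rw [Generators.Hom.toAlgHom_C]

omit [Algebra A' B'] [Algebra A A'] [Algebra B B'] [Algebra A B'] [IsScalarTower A A' B'] [IsScalarTower A B B'] in
theorem cls_surjective_and_eq_zero_iff (hs : Function.Surjective (algebraMap A B)) :
    (∀ z : Algebra.H1Cotangent A B, ∃ (a : A) (ha : algebraMap A B a = 0), cls a ha = z) ∧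
      ∀ (a : A) (ha : algebraMap A B a = 0),
        cls a ha = 0 ↔ a ∈ RingHom.ker (algebraMap A B) * RingHom.ker (algebraMap A B) := by
  let E : Extension A B := Extension.ofSurjective (Algebra.ofId A B) hs
  let f : E.Hom (Generators.self A B).toExtension :=
    Extension.Hom.ofAlgHom (Algebra.ofId A (Generators.self A B).toExtension.Ring) (by ext)
  let e := Extension.H1Cotangent.equiv f E.defaultHom
  let e' := E.h1CotangentEquivOfSurjective Function.surjective_id
  have key : ∀ (a : A) (ha : algebraMap A B a = 0),
      e (e'.symm (Extension.Cotangent.mk (P := E) ⟨a, ha⟩)) = cls a ha := fun a ha => by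
    refine Subtype.ext ?_
    exact (Extension.Cotangent.map_mk f _).trans (congrArg Extension.Cotangent.mk (Subtype.ext rfl))
  refine ⟨fun z => ?_, fun a ha => ?_⟩
  · obtain ⟨⟨a, ha⟩, hx⟩ := Extension.Cotangent.mk_surjective (e' (e.symm z))
    refine ⟨a, ha, ?_⟩
    rw [← key, hx, e'.symm_apply_apply, e.apply_symm_apply]
  · rw [← key, LinearEquiv.map_eq_zero_iff, LinearEquiv.map_eq_zero_iff]
    refine Iff.trans ⟨fun h => congrArg Extension.Cotangent.val h, fun h => Extension.Cotangent.ext h⟩ ?_
    rw [Extension.Cotangent.val_mk, Extension.Cotangent.val_zero]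
    exact (Ideal.toCotangent_eq_zero _ _).trans (by rw [pow_two]; rfl)

end Groth.Agent.NLSheafLib
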