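import Mathlib

/-!
# Morphisms of modules bijective on a basis
-/

set_option autoImplicit false
set_option backward.isDefEq.respectTransparency false

universe u

open CategoryTheory AlgebraicGeometry Opposite TopologicalSpace

namespace Groth.Agent.NLSheafLib

variable {X : Scheme.{u}} {M N : X.Modules} (φ : M ⟶ N) {ι : Type*} (B : ι → X.Opens)

theorem app_res {U V : X.Opens} (h : V ≤ U) (m : Γ(M, U)) :
    φ.app V (M.presheaf.map (homOfLE h).op m) = N.presheaf.map (homOfLE h).op (φ.app U m) :=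
  ConcreteCategory.congr_hom (φ.mapPresheaf.naturality (homOfLE h).op) m

/-- A morphism of modules which is bijective on a basis is an isomorphism. -/
theorem isIso_of_bijective_basis (hB : ∀ (U : X.Opens), ∀ x ∈ U, ∃ b, x ∈ B b ∧ B b ≤ U)
    (h : ∀ b, Function.Bijective (φ.app (B b))) : IsIso φ := by
  have res : ∀ {F : X.Modules} {U V W : X.Opens} (h₁ : V ≤ U) (h₂ : W ≤ V) (m : Γ(F, U)),
      F.presheaf.map (homOfLE h₂).op (F.presheaf.map (homOfLE h₁).op m) = F.presheaf.map (homOfLE (h₂.trans h₁)).op m :=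
    fun {F U V W} h₁ h₂ m => by rw [← ConcreteCategory.comp_apply, ← Functor.map_comp]; rfl
  let FM : TopCat.Sheaf Ab.{u} X := ⟨M.presheaf, M.isSheaf⟩
  let FN : TopCat.Sheaf Ab.{u} X := ⟨N.presheaf, N.isSheaf⟩
  have hinj : ∀ U : X.Opens, Function.Injective (φ.app U) := fun U a b hab => by
    choose k hk hkU using fun x : U => hB U x.1 x.2
    refine TopCat.Sheaf.eq_of_locally_eq' FM (fun x : U => B (k x)) U (fun x => homOfLE (hkU x))
      (fun x hx => Opens.mem_iSup.2 ⟨⟨x, hx⟩, hk ⟨x, hx⟩⟩) a b fun x => (h (k x)).1 ?_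
    show φ.app _ (M.presheaf.map _ a) = φ.app _ (M.presheaf.map _ b)
    rw [app_res, app_res, hab]
  have hbij : ∀ U : X.Opens, Function.Bijective (φ.app U) := fun U => by
    refine ⟨hinj U, fun n => ?_⟩
    choose k hk hkU using fun x : U => hB U x.1 x.2
    choose m hm using fun x : U => (h (k x)).2 (N.presheaf.map (homOfLE (hkU x)).op n)
    obtain ⟨g, hg, -⟩ := FM.existsUnique_gluing' (fun x : U => B (k x)) U (fun x => homOfLE (hkU x))
      (fun x hx => Opens.mem_iSup.2 ⟨⟨x, hx⟩, hk ⟨x, hx⟩⟩) m fun x y => by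
        refine hinj _ ?_
        show φ.app _ (M.presheaf.map (homOfLE inf_le_left).op (m x)) = φ.app _ (M.presheaf.map (homOfLE inf_le_right).op (m y))
        rw [app_res, app_res, hm, hm, res, res]
    refine ⟨g, TopCat.Sheaf.eq_of_locally_eq' FN (fun x : U => B (k x)) U (fun x => homOfLE (hkU x))
      (fun x hx => Opens.mem_iSup.2 ⟨⟨x, hx⟩, hk ⟨x, hx⟩⟩) _ _ fun x => ?_⟩
    show N.presheaf.map _ (φ.app U g) = N.presheaf.map _ n
    rw [← app_res, show M.presheaf.map (homOfLE (hkU x)).op g = m x from hg x, hm]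
  rw [Scheme.Modules.Hom.isIso_iff_isIso_app]
  intro U
  exact (ConcreteCategory.isIso_iff_bijective _).2 (hbij U)

end Groth.Agent.NLSheafLib
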