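import Groth.Agent.NLSheafLib.Module
import Groth.Agent.NLSheafLib.Cls
import Groth.Agent.NLSheafLib.ModIso
import Groth.Agent.ConormalLib.Chart
import Groth.Prelude.Def_Omega2

/-!
# The conormal sheaf of an immersion is `H⁻¹` of its naive cotangent complex
-/

set_option autoImplicit false
set_option backward.isDefEq.respectTransparency false
set_option backward.isDefEq.respectTransparency.types false
set_option backward.defeqAttrib.useBackward true
set_option linter.style.haveILetI false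
set_option maxHeartbeats 1000000

universe u

open CategoryTheory CategoryTheory.Limits AlgebraicGeometry Opposite TopologicalSpace

noncomputable section

namespace Groth.Agent.NLSheafLib

open NLCx

variable {Z X : Scheme.{u}} (i : Z ⟶ X)

theorem appLE_eq_zero {W : X.Opens} (x : Γ(X, W)) (hx : i.app W x = 0) (q : CP i) (hq : (q.V : X.Opens) ≤ W) :
    i.appLE (q.V : X.Opens) (q.U : Z.Opens) q.e (X.presheaf.map (homOfLE hq).op x) = 0 := by
  rw [← CommRingCat.comp_apply, Scheme.Hom.map_appLE, Scheme.Hom.appLE, CommRingCat.comp_apply, hx, map_zero]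

/-- The class on a chart pair of a function vanishing on the source. -/
def clsAt (q : CP i) (a : Γ(X, (q.V : X.Opens))) (ha : i.appLE (q.V : X.Opens) (q.U : Z.Opens) q.e a = 0) : q.H :=
  letI := (i.appLE (q.V : X.Opens) (q.U : Z.Opens) q.e).hom.toAlgebra
  cls a ha

variable {i}

theorem rs_clsAt {r q : CP i} (h : r.Le q) (a : Γ(X, (q.V : X.Opens)))
    (ha : i.appLE (q.V : X.Opens) (q.U : Z.Opens) q.e a = 0) :
    ∃ ha', rs h (clsAt i q a ha) = clsAt i r (X.presheaf.map (homOfLE h.2).op a) ha' := by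
  letI := (i.appLE (q.V : X.Opens) (q.U : Z.Opens) q.e).hom.toAlgebra
  letI := (i.appLE (r.V : X.Opens) (r.U : Z.Opens) r.e).hom.toAlgebra
  letI := (i.appLE (q.V : X.Opens) (r.U : Z.Opens) (h.1.trans q.e)).hom.toAlgebra
  letI := (Z.presheaf.map (homOfLE h.1).op).hom.toAlgebra
  letI := (X.presheaf.map (homOfLE h.2).op).hom.toAlgebra
  haveI := IsScalarTower.of_algebraMap_eq' (R := Γ(X, (q.V : X.Opens))) (S := Γ(X, (r.V : X.Opens))) (A := Γ(Z, (r.U : Z.Opens)))
    (by change (i.appLE _ _ _).hom = (i.appLE _ _ _).hom.comp (X.presheaf.map _).hom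
        rw [← CommRingCat.hom_comp, Scheme.Hom.map_appLE])
  haveI := IsScalarTower.of_algebraMap_eq' (R := Γ(X, (q.V : X.Opens))) (S := Γ(Z, (q.U : Z.Opens))) (A := Γ(Z, (r.U : Z.Opens)))
    (by change (i.appLE _ _ _).hom = (Z.presheaf.map _).hom.comp (i.appLE _ _ _).hom
        rw [← CommRingCat.hom_comp, Scheme.Hom.appLE_map])
  exact ⟨_, map_cls a ha⟩

variable (i)

theorem existsUnique_section (W : X.Opens) (x : Γ(X, W)) (hx : i.app W x = 0) :
    ∃! z : fam i (i ⁻¹ᵁ W), ∀ (q : CP i) (hq : (q.V : X.Opens) ≤ W),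
      z.1 ⟨q, q.e.trans (i.preimage_mono hq)⟩ =
        clsAt i q (X.presheaf.map (homOfLE hq).op x) (appLE_eq_zero i x hx q hq) := by
  let S : CP i → Prop := fun q => (q.V : X.Opens) ≤ W
  let t : ∀ q, S q → q.H := fun q hq => clsAt i q (X.presheaf.map (homOfLE hq).op x) (appLE_eq_zero i x hx q hq)
  have hS : ∀ q r : CP i, S q → r.Le q → S r := fun q r hq h => h.2.trans hq
  have ht : ∀ (q r : CP i) (hq : S q) (h : r.Le q), rs h (t q hq) = t r (hS q r hq h) := fun q r hq h => by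
    obtain ⟨_, e⟩ := rs_clsAt h _ (appLE_eq_zero i x hx q hq)
    refine e.trans ?_
    simp only [map_comp_homOfLE]
    rfl
  have hcov : ∀ p : CP i, (p.U : Z.Opens) ≤ i ⁻¹ᵁ W → ∀ y ∈ (p.U : Z.Opens),
      ∃ q : CP i, q.Le p ∧ S q ∧ y ∈ (q.U : Z.Opens) := fun p hp y hy => by
    obtain ⟨g, q, hqg, hqU, -, hyg, hqV, -⟩ :=
      exists_basic_le p (p.U : Z.Opens) ((p.V : X.Opens) ⊓ W) hy hy ⟨p.e hy, hp hy⟩ inf_le_left
    exact ⟨q, hqg.trans (p.basic_le g), hqV.trans inf_le_right, hqU.ge hyg⟩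
  choose m hm using fun (p : CP i) (hp : (p.U : Z.Opens) ≤ i ⁻¹ᵁ W) => glue p S t hS ht (hcov p hp)
  refine ⟨⟨fun p => m p.1 p.2, fun q p h hp => sep q _ _ fun y hy => ?_⟩, fun q hq => ?_, fun z hz => ?_⟩
  · obtain ⟨r, hr, hrS, hyr⟩ := hcov q (h.1.trans hp) y hy
    exact ⟨r, hr, hyr, by rw [rs_rs, hm p hp r _ hrS, hm q _ r hr hrS]⟩
  · have h := hm q (q.e.trans (i.preimage_mono hq)) q (CP.Le.refl q) hq
    rw [rs_self] at h
    exact h
  · refine Subtype.ext (funext fun ⟨p, hp⟩ => sep p _ _ fun y hy => ?_)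
    obtain ⟨r, hr, hrS, hyr⟩ := hcov p hp y hy
    exact ⟨r, hr, hyr, by rw [z.2 r p hr hp, hz r hrS, hm p hp r hr hrS]⟩

/-- The family of classes of a function vanishing on the source. -/
def secOf (W : X.Opens) (x : Γ(X, W)) (hx : i.app W x = 0) : fam i (i ⁻¹ᵁ W) :=
  (existsUnique_section i W x hx).exists.choose

theorem secOf_apply (W : X.Opens) (x : Γ(X, W)) (hx : i.app W x = 0) (q : CP i) (hq : (q.V : X.Opens) ≤ W) :
    (secOf i W x hx).1 ⟨q, q.e.trans (i.preimage_mono hq)⟩ =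
      clsAt i q (X.presheaf.map (homOfLE hq).op x) (appLE_eq_zero i x hx q hq) :=
  (existsUnique_section i W x hx).exists.choose_spec q hq

theorem eq_secOf (W : X.Opens) (x : Γ(X, W)) (hx : i.app W x = 0) (z : fam i (i ⁻¹ᵁ W))
    (hz : ∀ (q : CP i) (hq : (q.V : X.Opens) ≤ W), z.1 ⟨q, q.e.trans (i.preimage_mono hq)⟩ =
      clsAt i q (X.presheaf.map (homOfLE hq).op x) (appLE_eq_zero i x hx q hq)) : z = secOf i W x hx :=
  (existsUnique_section i W x hx).unique hz (secOf_apply i W x hx)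

theorem clsAt_congr (q : CP i) {a a' : Γ(X, (q.V : X.Opens))} (h : a = a')
    (ha : i.appLE (q.V : X.Opens) (q.U : Z.Opens) q.e a = 0) :
    clsAt i q a ha = clsAt i q a' (h ▸ ha) := by
  subst h; rfl

theorem clsAt_add (q : CP i) (a b : Γ(X, (q.V : X.Opens))) (ha : i.appLE (q.V : X.Opens) (q.U : Z.Opens) q.e a = 0)
    (hb : i.appLE (q.V : X.Opens) (q.U : Z.Opens) q.e b = 0) :
    clsAt i q (a + b) (by rw [map_add, ha, hb, add_zero]) = clsAt i q a ha + clsAt i q b hb :=
  letI := (i.appLE (q.V : X.Opens) (q.U : Z.Opens) q.e).hom.toAlgebra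
  cls_add a b ha hb

theorem clsAt_mul (q : CP i) (c a : Γ(X, (q.V : X.Opens))) (ha : i.appLE (q.V : X.Opens) (q.U : Z.Opens) q.e a = 0) :
    clsAt i q (c * a) (by rw [map_mul, ha, mul_zero]) = i.appLE (q.V : X.Opens) (q.U : Z.Opens) q.e c • clsAt i q a ha :=
  letI := (i.appLE (q.V : X.Opens) (q.U : Z.Opens) q.e).hom.toAlgebra
  cls_mul c a ha

/-- Classes of local sections of the ideal. -/
def secHom (W : X.Opens) : Γ(ClSub.idealMod i.ker, W) →+ fam i (i ⁻¹ᵁ W) :=
  AddMonoidHom.mk' (fun m => secOf i W (OmegaSh.idealSect i.ker W m) (ConormalLib.app_idealSect i W m)) fun m m' => by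
    refine (eq_secOf i W _ _ _ fun q hq => ?_).symm
    refine (congrArg₂ (· + ·) (secOf_apply i W _ _ q hq) (secOf_apply i W _ _ q hq)).trans ?_
    rw [← clsAt_add]
    exact clsAt_congr i q (by rw [map_add, map_add]) _

theorem secHom_res {W W' : X.Opens} (h : W' ≤ W) (m : Γ(ClSub.idealMod i.ker, W)) :
    secHom i W' ((ClSub.idealMod i.ker).presheaf.map (homOfLE h).op m) =
      (h1Mod i).presheaf.map (homOfLE (i.preimage_mono h)).op (secHom i W m) := by
  refine (eq_secOf i W' _ (ConormalLib.app_idealSect i W' _) _ fun q hq => ?_).symm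
  refine (secOf_apply i W _ (ConormalLib.app_idealSect i W m) q (hq.trans h)).trans (clsAt_congr i q ?_ _)
  rw [ConormalLib.idealSect_res, map_comp_homOfLE]

theorem secHom_smul (W : X.Opens) (r : Γ(X, W)) (m : Γ(ClSub.idealMod i.ker, W)) :
    secHom i W (r • m) = i.app W r • secHom i W m := by
  refine (eq_secOf i W _ (ConormalLib.app_idealSect i W _) _ fun q hq => ?_).symm
  show Z.presheaf.map (homOfLE (q.e.trans (i.preimage_mono hq))).op (i.app W r) •
    (secOf i W _ (ConormalLib.app_idealSect i W m)).1 ⟨q, q.e.trans (i.preimage_mono hq)⟩ = _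
  rw [secOf_apply i W _ (ConormalLib.app_idealSect i W m) q hq]
  refine Eq.trans ?_ ((clsAt_mul i q (X.presheaf.map (homOfLE hq).op r) _
    (appLE_eq_zero i _ (ConormalLib.app_idealSect i W m) q hq)).symm.trans
    (clsAt_congr i q (by rw [OmegaAffLib.idealSect_smul, map_mul]) _))
  congr 1
  rw [← CommRingCat.comp_apply (X.presheaf.map _), Scheme.Hom.map_appLE]
  rfl

/-- The classes as a morphism of modules. -/
def theta : ClSub.idealMod i.ker ⟶ (Scheme.Modules.pushforward i).obj (h1Mod i) :=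
  ⟨PresheafOfModules.homMk
    { app := fun W => AddCommGrpCat.ofHom (secHom i W.unop)
      naturality := fun W W' a => AddCommGrpCat.hom_ext (AddMonoidHom.ext fun m =>
        secHom_res i (leOfHom a.unop) m) }
    fun W r m => secHom_smul i W.unop r m⟩

/-- The comparison of the conormal sheaf with `H⁻¹`. -/
def phi : Omega.conormal i ⟶ h1Mod i :=
  ((Scheme.Modules.pullbackPushforwardAdjunction i).homEquiv _ _).symm (theta i)

theorem phi_pullMap (W : X.Opens) (m : Γ(ClSub.idealMod i.ker, W)) :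
    (phi i).app (i ⁻¹ᵁ W) (PullbackMod.pullMap i (ClSub.idealMod i.ker) (W := W) (W' := i ⁻¹ᵁ W) le_rfl m) =
      secHom i W m := by
  have h : (Scheme.Modules.pullbackPushforwardAdjunction i).homEquiv _ _ (phi i) = theta i :=
    Equiv.apply_symm_apply _ _
  rw [Adjunction.homEquiv_unit] at h
  have h2 : (phi i).app (i ⁻¹ᵁ W) (((Scheme.Modules.pullbackPushforwardAdjunction i).unit.app _).app W m) =
      secHom i W m := congrArg (fun φ : ClSub.idealMod i.ker ⟶ _ => φ.app W m) h
  refine Eq.trans ?_ h2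
  refine congrArg _ ?_
  show (((Scheme.Modules.pullback i).obj _).presheaf.map (homOfLE le_rfl).op) _ = _
  rw [show (homOfLE (le_refl (i ⁻¹ᵁ W))).op = 𝟙 _ from rfl, CategoryTheory.Functor.map_id]
  rfl

theorem isIso_phi [IsImmersion i] [QuasiCompact i] : IsIso (phi i) := by
  let ι := {U : X.Opens // IsAffineOpen U ∧ U ≤ i.coborderRange}
  refine isIso_of_bijective_basis (phi i) (fun b : ι => i ⁻¹ᵁ b.1) (fun V x hx => ?_) fun b => ?_
  · obtain ⟨U, hU, hxU, -, hUV, hUW⟩ := ConormalLib.exists_chart i x hx (O := ⊤) trivial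
    exact ⟨⟨U, hU, hUW⟩, hxU, hUV⟩
  · obtain ⟨U, hU, hUW⟩ := b
    obtain ⟨hW, hs⟩ := ConormalLib.chart_of_le i hU hUW
    obtain ⟨hsurj, hzero⟩ := ConormalLib.cls_surjective_and_eq_zero_iff i hU hW hs
    let p : CP i := ⟨⟨i ⁻¹ᵁ U, hW⟩, ⟨U, hU⟩, le_rfl⟩
    have hφ : i.appLE (p.V : X.Opens) (p.U : Z.Opens) p.e = i.app U := by rw [Scheme.Hom.app_eq_appLE]
    letI := (i.appLE (p.V : X.Opens) (p.U : Z.Opens) p.e).hom.toAlgebra
    obtain ⟨hcs, hcz⟩ := cls_surjective_and_eq_zero_iff (A := Γ(X, (p.V : X.Opens))) (B := Γ(Z, (p.U : Z.Opens)))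
      (by rw [RingHom.algebraMap_toAlgebra, hφ]; exact hs)
    have hval : ∀ m : Γ(ClSub.idealMod i.ker, U), ∃ ha, (secHom i U m).1 ⟨p, le_rfl⟩ =
        clsAt i p (OmegaSh.idealSect i.ker U m) ha := fun m => by
      have ha : i.appLE (p.V : X.Opens) (p.U : Z.Opens) p.e (OmegaSh.idealSect i.ker U m) = 0 :=
        (congrArg (fun φ => φ (OmegaSh.idealSect i.ker U m)) hφ).trans (ConormalLib.app_idealSect i U m)
      exact ⟨ha, (secOf_apply i U (OmegaSh.idealSect i.ker U m) (ConormalLib.app_idealSect i U m) p le_rfl).trans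
        (clsAt_congr i p (congrArg (fun φ : Γ(X, U) →+* Γ(X, U) => φ (OmegaSh.idealSect i.ker U m))
          (hom_map_refl X.presheaf U)) _)⟩
    have hinj := projection_bijective i p
    refine ⟨(injective_iff_map_eq_zero _).2 fun c hc => ?_, fun z => ?_⟩
    · obtain ⟨m, rfl⟩ := hsurj c
      rw [phi_pullMap] at hc
      obtain ⟨ha, e⟩ := hval m
      have h0 : (secHom i U m).1 ⟨p, le_rfl⟩ = 0 := congrArg (fun w : fam i (i ⁻¹ᵁ U) => w.1 ⟨p, le_rfl⟩) hc
      rw [e] at h0
      refine (hzero m).2 ?_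
      have := (hcz _ ha).1 h0
      rwa [RingHom.algebraMap_toAlgebra, hφ] at this
    · obtain ⟨a, ha, haz⟩ := hcs ((show fam i (i ⁻¹ᵁ U) from z).1 ⟨p, le_rfl⟩)
      obtain ⟨m, hm⟩ := ConormalLib.exists_idealSect_eq i U a
        ((congrArg (fun φ => φ a) hφ).symm.trans ha)
      refine ⟨PullbackMod.pullMap i (ClSub.idealMod i.ker) (W := U) (W' := i ⁻¹ᵁ U) le_rfl m, ?_⟩
      refine (phi_pullMap i U m).trans (hinj.1 ?_)
      obtain ⟨ha', e⟩ := hval m
      exact (e.trans (clsAt_congr i p hm _)).trans haz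

variable {i}

/-- Chart identifications pass along isomorphisms of modules. -/
def h1SheafOfIso {F G : Z.Modules} (a : F ≅ G) (c : H1Sheaf i G) : H1Sheaf i F where
  iso U V e := ((asIso (a.hom.app (U : Z.Opens))).addCommGroupIsoToAddEquiv).trans (c.iso U V e)
  map_smul U V e r m := by
    refine (congrArg (c.iso U V e) (Scheme.Modules.Hom.app_smul a.hom r m)).trans ?_
    exact c.map_smul U V e r _
  map_res {U U' V V'} e e' hU hV m := by
    refine (congrArg (c.iso U' V' e') (app_res a.hom hU m)).trans ?_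
    exact c.map_res e e' hU hV _

/-- The conormal sheaf is `H⁻¹` of the naive cotangent complex. -/
theorem nonempty_h1Sheaf_conormal [IsImmersion i] [QuasiCompact i] : Nonempty (H1Sheaf i (Omega.conormal i)) :=
  haveI := isIso_phi i
  ⟨h1SheafOfIso (asIso (phi i)) (h1ModData i)⟩

/-- An immersion has no differentials on affine charts. -/
theorem onCharts_subsingleton_kaehler [IsImmersion i] :
    OnCharts i (fun A B _ _ _ => Subsingleton (Ω[B⁄A])) := fun U V e => by
  letI := (i.appLE (V : X.Opens) (U : Z.Opens) e).hom.toAlgebra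
  haveI : Algebra.FormallyUnramified Γ(X, (V : X.Opens)) Γ(Z, (U : Z.Opens)) :=
    HasRingHomProperty.appLE (P := @FormallyUnramified) i inferInstance V U e
  exact inferInstance

end Groth.Agent.NLSheafLib
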