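import Groth.Agent.NLSheafLib.Chart

/-!
# Gluing in the `H¹` modules of affine chart pairs
-/

set_option autoImplicit false
set_option backward.isDefEq.respectTransparency false
set_option linter.style.haveILetI false
set_option maxHeartbeats 1000000

universe u

open CategoryTheory AlgebraicGeometry Opposite TopologicalSpace

noncomputable section

namespace Groth.Agent.NLSheafLib

open NLCx

variable {X Y : Scheme.{u}}

/-- An affine chart pair. -/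
structure CP (f : X ⟶ Y) where
  /-- the source -/
  U : X.affineOpens
  /-- the target -/
  V : Y.affineOpens
  e : (U : X.Opens) ≤ f ⁻¹ᵁ (V : Y.Opens)

variable {f : X ⟶ Y}

/-- Nested chart pairs. -/
def CP.Le (q p : CP f) : Prop := (q.U : X.Opens) ≤ (p.U : X.Opens) ∧ (q.V : Y.Opens) ≤ (p.V : Y.Opens)

/-- The `H¹` module of a chart pair. -/
abbrev CP.H (p : CP f) : Type u := ChartH1 f p.U p.V p.e

theorem CP.Le.refl (p : CP f) : p.Le p := ⟨le_rfl, le_rfl⟩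

theorem CP.Le.trans {p q r : CP f} (h : r.Le q) (h' : q.Le p) : r.Le p := ⟨h.1.trans h'.1, h.2.trans h'.2⟩

/-- Restriction. -/
def rs {q p : CP f} (h : q.Le p) : p.H →+ q.H := chartRes p.e q.e h.1 h.2

theorem rs_rs {r q p : CP f} (h : r.Le q) (h' : q.Le p) (m : p.H) : rs h (rs h' m) = rs (h.trans h') m :=
  res_res p.e q.e r.e h'.1 h'.2 h.1 h.2 m

theorem rs_self (p : CP f) (m : p.H) : rs (CP.Le.refl p) m = m := res_self p.e m

/-- Restriction of functions between nested chart pairs. -/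
abbrev scl {q p : CP f} (h : q.Le p) : Γ(X, (p.U : X.Opens)) →+* Γ(X, (q.U : X.Opens)) :=
  (X.presheaf.map (homOfLE h.1).op).hom

theorem rs_smul {q p : CP f} (h : q.Le p) (a : Γ(X, (p.U : X.Opens))) (m : p.H) :
    rs h (a • m) = scl h a • rs h m := res_smul p.e q.e h.1 h.2 a m

theorem map_comp_homOfLE {A B C : X.Opens} (h : B ≤ A) (h' : C ≤ B) (a : Γ(X, A)) :
    X.presheaf.map (homOfLE h').op (X.presheaf.map (homOfLE h).op a) =
      X.presheaf.map (homOfLE (h'.trans h)).op a := by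
  rw [← CommRingCat.comp_apply, ← Functor.map_comp]
  rfl

theorem scl_scl {r q p : CP f} (h : r.Le q) (h' : q.Le p) (a : Γ(X, (p.U : X.Opens))) :
    scl h (scl h' a) = scl (h.trans h') a := map_comp_homOfLE h'.1 h.1 a

/-- The pair of a basic open of the source. -/
def CP.basic (p : CP f) (g : Γ(X, (p.U : X.Opens))) : CP f :=
  ⟨⟨X.basicOpen g, p.U.2.basicOpen g⟩, p.V, (X.basicOpen_le g).trans p.e⟩

theorem CP.basic_le (p : CP f) (g : Γ(X, (p.U : X.Opens))) : (p.basic g).Le p := ⟨X.basicOpen_le g, le_rfl⟩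

/-- Sections near a point. -/
theorem exists_basic_le (p : CP f) (O : X.Opens) (W : Y.Opens) {x : X} (hx : x ∈ (p.U : X.Opens)) (hxO : x ∈ O)
    (hxW : f x ∈ W) (hW : W ≤ (p.V : Y.Opens)) :
    ∃ (g : Γ(X, (p.U : X.Opens))) (q : CP f), q.Le (p.basic g) ∧ (q.U : X.Opens) = X.basicOpen g ∧
      X.basicOpen g ≤ O ∧ x ∈ X.basicOpen g ∧ (q.V : Y.Opens) ≤ W ∧ f x ∈ (q.V : Y.Opens) := by
  obtain ⟨_, ⟨V', hV', rfl⟩, hxV, hV'W⟩ :=
    Y.isBasis_affineOpens.exists_subset_of_mem_open (show f x ∈ (W : Set Y) from hxW) W.isOpen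
  obtain ⟨g, hg, hxg⟩ := p.U.2.exists_basicOpen_le (V := O ⊓ f ⁻¹ᵁ V') ⟨x, hxO, hxV⟩ hx
  exact ⟨g, ⟨⟨X.basicOpen g, p.U.2.basicOpen g⟩, ⟨V', hV'⟩, hg.trans inf_le_right⟩,
    ⟨le_rfl, le_trans hV'W hW⟩, rfl, hg.trans inf_le_left, hxg, hV'W, hxV⟩

theorem rs_basic_bijective {p : CP f} {g : Γ(X, (p.U : X.Opens))} {q : CP f} (h : q.Le (p.basic g))
    (hq : (q.U : X.Opens) = X.basicOpen g) : Function.Bijective (rs h) := by
  obtain ⟨U', V', e'⟩ := q
  obtain ⟨U', hU'⟩ := U'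
  subst hq
  exact res_bijective (p.basic g).e e' h.2

/-- Elements with the same restrictions locally on the source are equal. -/
theorem sep (p : CP f) (m m' : p.H)
    (h : ∀ x ∈ (p.U : X.Opens), ∃ (q : CP f) (hq : q.Le p), x ∈ (q.U : X.Opens) ∧ rs hq m = rs hq m') : m = m' := by
  rw [← sub_eq_zero]
  set d := m - m' with hd
  let J : Ideal Γ(X, (p.U : X.Opens)) := LinearMap.ker (LinearMap.toSpanSingleton Γ(X, (p.U : X.Opens)) p.H d)
  have hmem : ∀ a, a ∈ J ↔ a • d = 0 := fun a => LinearMap.mem_ker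
  have hspan : Ideal.span (J.radical : Set Γ(X, (p.U : X.Opens))) = ⊤ := by
    rw [← p.U.2.self_le_iSup_basicOpen_iff]
    intro x hx
    obtain ⟨q, hq, hxq, he⟩ := h x hx
    have hd0 : rs hq d = 0 := by rw [hd, map_sub, he, sub_self]
    obtain ⟨g, q', hq'g, hq'U, hgO, hxg, hq'V, -⟩ :=
      exists_basic_le p (q.U : X.Opens) (q.V : Y.Opens) hx hxq (q.e hxq) hq.2
    have hq'q : q'.Le q := ⟨hq'U.le.trans hgO, hq'V⟩
    have h0 : rs (p.basic_le g) d = 0 := by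
      refine (rs_basic_bijective hq'g hq'U).1 ?_
      rw [map_zero, rs_rs, show rs (hq'g.trans (p.basic_le g)) d = rs (hq'q.trans hq) d from rfl, ← rs_rs hq'q hq, hd0,
        map_zero]
    obtain ⟨n, hn⟩ := (res_basicOpen g rfl p.e (p.basic g).e (X.basicOpen_le g)).1 d h0
    exact Opens.mem_iSup.2 ⟨⟨g, ⟨n, (hmem _).2 hn⟩⟩, hxg⟩
  rw [Ideal.span_eq] at hspan
  have h1 : (1 : Γ(X, (p.U : X.Opens))) ∈ J := by
    rw [show J = ⊤ from Ideal.radical_eq_top.1 hspan]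
    trivial
  simpa using (hmem 1).1 h1

/-- Compatible elements on enough smaller pairs glue. -/
theorem glue (p : CP f) (S : CP f → Prop) (t : ∀ q, S q → q.H) (hS : ∀ q r : CP f, S q → r.Le q → S r)
    (ht : ∀ (q r : CP f) (hq : S q) (h : r.Le q), rs h (t q hq) = t r (hS q r hq h))
    (hcov : ∀ x ∈ (p.U : X.Opens), ∃ q, q.Le p ∧ S q ∧ x ∈ (q.U : X.Opens)) :
    ∃ m : p.H, ∀ (q : CP f) (hq : q.Le p) (hqS : S q), rs hq m = t q hqS := by
  classical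
  -- the basic opens over which a value exists
  let Good : Set Γ(X, (p.U : X.Opens)) :=
    {g | ∃ v : (p.basic g).H, ∀ (q : CP f) (hq : q.Le (p.basic g)) (hqS : S q), rs hq v = t q hqS}
  have hspan : Ideal.span Good = ⊤ := by
    rw [← p.U.2.self_le_iSup_basicOpen_iff]
    intro x hx
    obtain ⟨q, hqp, hqS, hxq⟩ := hcov x hx
    obtain ⟨g, q', hq'g, hq'U, hgO, hxg, hq'V, -⟩ :=
      exists_basic_le p (q.U : X.Opens) (q.V : Y.Opens) hx hxq (q.e hxq) hqp.2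
    have hq'S : S q' := hS q q' hqS ⟨hq'U.le.trans hgO, hq'V⟩
    obtain ⟨v, hv⟩ := (rs_basic_bijective hq'g hq'U).2 (t q' hq'S)
    refine Opens.mem_iSup.2 ⟨⟨g, v, fun r hr hrS => sep r _ _ fun y hy => ?_⟩, hxg⟩
    have hyq' : y ∈ (q'.U : X.Opens) := hq'U.ge (hr.1 hy)
    obtain ⟨g', r', hr'g, hr'U, hg'O, hyg, hr'V, -⟩ := exists_basic_le r (q'.U : X.Opens)
      ((q'.V : Y.Opens) ⊓ (r.V : Y.Opens)) hy hyq' ⟨q'.e hyq', r.e hy⟩ inf_le_right
    have h₁ : r'.Le r := hr'g.trans (r.basic_le g')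
    have h₂ : r'.Le q' := ⟨hr'U.le.trans hg'O, hr'V.trans inf_le_left⟩
    refine ⟨r', h₁, hr'U.ge hyg, ?_⟩
    rw [rs_rs, show rs (h₁.trans hr) v = rs (h₂.trans hq'g) v from rfl, ← rs_rs h₂ hq'g, hv, ht, ht]
  obtain ⟨s, hsG, hs⟩ := (Ideal.span_eq_top_iff_finite _).1 hspan
  choose v hv using fun g : s => hsG g.2
  -- clear denominators
  choose k a ha using fun g : s => (res_basicOpen g.1 rfl p.e (p.basic g.1).e (X.basicOpen_le g.1)).2 (v g)
  let n := s.attach.sup k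
  obtain ⟨b, hb⟩ : ∃ b : s → p.H, ∀ g : s, rs (p.basic_le g.1) (b g) = scl (p.basic_le g.1) (g.1 ^ n) • v g := by
    refine ⟨fun g => g.1 ^ (n - k g) • a g, fun g => ?_⟩
    have ha' : rs (p.basic_le g.1) (a g) = scl (p.basic_le g.1) (g.1 ^ k g) • v g := ha g
    rw [rs_smul, ha', smul_smul, ← map_mul, ← pow_add,
      Nat.sub_add_cancel (Finset.le_sup (Finset.mem_attach _ g))]
  -- compatibility
  have hcomp : ∀ g h : s, ∃ N : ℕ, (g.1 * h.1) ^ N • (h.1 ^ n • b g - g.1 ^ n • b h) = 0 := fun g h => by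
    refine (res_basicOpen (g.1 * h.1) rfl p.e (p.basic (g.1 * h.1)).e (X.basicOpen_le _)).1 _ ?_
    have hle : X.basicOpen (g.1 * h.1) ≤ X.basicOpen g.1 ⊓ X.basicOpen h.1 := (X.basicOpen_mul _ _).le
    have h₁ : (p.basic (g.1 * h.1)).Le (p.basic g.1) := ⟨hle.trans inf_le_left, le_rfl⟩
    have h₂ : (p.basic (g.1 * h.1)).Le (p.basic h.1) := ⟨hle.trans inf_le_right, le_rfl⟩
    have hvv : rs h₁ (v g) = rs h₂ (v h) := by
      refine sep _ _ _ fun y hy => ?_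
      obtain ⟨q, hqp, hqS, hyq⟩ := hcov y (X.basicOpen_le _ hy)
      obtain ⟨g', q', hq'g, hq'U, hg'O, hyg, hq'V, -⟩ := exists_basic_le (p.basic (g.1 * h.1)) (q.U : X.Opens)
        (q.V : Y.Opens) hy hyq (q.e hyq) hqp.2
      have h₃ := hq'g.trans ((p.basic (g.1 * h.1)).basic_le g')
      have hq'S : S q' := hS q q' hqS ⟨hq'U.le.trans hg'O, hq'V⟩
      refine ⟨q', h₃, hq'U.ge hyg, ?_⟩
      rw [rs_rs, rs_rs, hv g q' _ hq'S, hv h q' _ hq'S]
    show rs (p.basic_le _) _ = 0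
    have e₁ : rs (p.basic_le (g.1 * h.1)) (b g) = scl (p.basic_le (g.1 * h.1)) (g.1 ^ n) • rs h₁ (v g) := by
      rw [show rs (p.basic_le (g.1 * h.1)) (b g) = rs (h₁.trans (p.basic_le g.1)) (b g) from rfl,
        ← rs_rs h₁ (p.basic_le g.1), hb, rs_smul, scl_scl]
    have e₂ : rs (p.basic_le (g.1 * h.1)) (b h) = scl (p.basic_le (g.1 * h.1)) (h.1 ^ n) • rs h₂ (v h) := by
      rw [show rs (p.basic_le (g.1 * h.1)) (b h) = rs (h₂.trans (p.basic_le h.1)) (b h) from rfl,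
        ← rs_rs h₂ (p.basic_le h.1), hb, rs_smul, scl_scl]
    rw [map_sub, sub_eq_zero, rs_smul _ (h.1 ^ n) (b g), rs_smul _ (g.1 ^ n) (b h), e₁, e₂, hvv, smul_smul, smul_smul]
    exact congrArg (· • _) (mul_comm _ _)
  choose N hN using hcomp
  let N₀ := (s.attach ×ˢ s.attach).sup fun gh => N gh.1 gh.2
  have hN₀ : ∀ g h : s, g.1 ^ (n + N₀) • (h.1 ^ N₀ • b h) = h.1 ^ (n + N₀) • (g.1 ^ N₀ • b g) := fun g h => by
    have hle : N g h ≤ N₀ := Finset.le_sup (f := fun gh : s × s => N gh.1 gh.2) (b := (g, h))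
      (Finset.mem_product.2 ⟨Finset.mem_attach _ g, Finset.mem_attach _ h⟩)
    obtain ⟨c, hc⟩ := Nat.exists_eq_add_of_le hle
    have := congrArg (fun z => (g.1 * h.1) ^ c • z) (hN g h)
    simp only [smul_zero, smul_smul, smul_sub, sub_eq_zero] at this
    rw [smul_smul, smul_smul]
    have e₁ : g.1 ^ (n + N₀) * h.1 ^ N₀ = (g.1 * h.1) ^ c * ((g.1 * h.1) ^ N g h * g.1 ^ n) := by rw [hc]; ring
    have e₂ : h.1 ^ (n + N₀) * g.1 ^ N₀ = (g.1 * h.1) ^ c * ((g.1 * h.1) ^ N g h * h.1 ^ n) := by rw [hc]; ring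
    rw [e₁, e₂]
    exact this.symm
  obtain ⟨c, hc⟩ := Submodule.mem_span_finset'.1
    ((Ideal.eq_top_iff_one _).1 (Ideal.span_pow_eq_top (s : Set Γ(X, (p.U : X.Opens))) hs (n + N₀)) |>
      (show (1 : Γ(X, (p.U : X.Opens))) ∈ Ideal.span ((fun g => g ^ (n + N₀)) '' (s : Set Γ(X, (p.U : X.Opens)))) →
        (1 : Γ(X, (p.U : X.Opens))) ∈ Submodule.span Γ(X, (p.U : X.Opens))
          ((s.image fun g => g ^ (n + N₀) : Finset Γ(X, (p.U : X.Opens))) : Set Γ(X, (p.U : X.Opens))) from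
        fun h => by rwa [Finset.coe_image]))
  choose pre hpre hpre' using fun z : (s.image fun g => g ^ (n + N₀) : Finset _) => Finset.mem_image.1 z.2
  let m : p.H := ∑ z, c z • ((pre z) ^ N₀ • b ⟨pre z, hpre z⟩)
  have hm : ∀ g : s, g.1 ^ (n + N₀) • m = g.1 ^ N₀ • b g := fun g => by
    rw [Finset.smul_sum]
    calc _ = ∑ z, (c z • (z : Γ(X, (p.U : X.Opens)))) • (g.1 ^ N₀ • b g) := by
          refine Finset.sum_congr rfl fun z _ => ?_
          rw [smul_comm, hN₀ g ⟨pre z, hpre z⟩, smul_assoc, ← hpre' z]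
      _ = _ := by rw [← Finset.sum_smul, hc, one_smul]
  have hval : ∀ g : s, rs (p.basic_le g.1) m = v g := fun g => by
    have e := congrArg (rs (p.basic_le g.1)) (hm g)
    rw [rs_smul, rs_smul, hb, smul_smul, ← map_mul, ← pow_add, add_comm N₀ n] at e
    have hu : IsUnit (scl (p.basic_le g.1) (g.1 ^ (n + N₀))) := by
      rw [map_pow]
      exact (X.toLocallyRingedSpace.toRingedSpace.isUnit_res_basicOpen g.1).pow _
    exact hu.smul_left_cancel.1 e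
  refine ⟨m, fun q hq hqS => sep q _ _ fun y hy => ?_⟩
  obtain ⟨⟨g, hg⟩, hyg⟩ := Opens.mem_iSup.1 ((p.U.2.self_le_iSup_basicOpen_iff).2 hs (hq.1 hy))
  obtain ⟨g', r, hrg, hrU, hg'O, hyg', hrV, -⟩ :=
    exists_basic_le q (X.basicOpen g) (q.V : Y.Opens) hy hyg (q.e hy) le_rfl
  have h₁ : r.Le q := hrg.trans (q.basic_le g')
  have h₂ : r.Le (p.basic g) := ⟨hrU.le.trans hg'O, h₁.2.trans hq.2⟩
  refine ⟨r, h₁, hrU.ge hyg', ?_⟩
  rw [rs_rs, show rs (h₁.trans hq) m = rs (h₂.trans (p.basic_le g)) m from rfl, ← rs_rs h₂ (p.basic_le g), hval ⟨g, hg⟩,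
    hv ⟨g, hg⟩ r h₂ (hS q r hqS h₁), ht]

/-- A pair of smaller pairs refining two pairs near a point. -/
theorem exists_common (p q : CP f) {x : X} (hp : x ∈ (p.U : X.Opens)) (hq : x ∈ (q.U : X.Opens)) :
    ∃ r : CP f, r.Le p ∧ r.Le q ∧ x ∈ (r.U : X.Opens) := by
  obtain ⟨g, r, hrg, hrU, hgO, hxg, hrV, -⟩ := exists_basic_le p (q.U : X.Opens)
    ((p.V : Y.Opens) ⊓ (q.V : Y.Opens)) hp hq ⟨p.e hp, q.e hq⟩ inf_le_left
  exact ⟨r, hrg.trans (p.basic_le g), ⟨hrU.le.trans hgO, hrV.trans inf_le_right⟩, hrU.ge hxg⟩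

theorem exists_pair (f : X ⟶ Y) (x : X) (O : X.Opens) (hx : x ∈ O) :
    ∃ p : CP f, x ∈ (p.U : X.Opens) ∧ (p.U : X.Opens) ≤ O := by
  obtain ⟨_, ⟨V, hV, rfl⟩, hxV, -⟩ := Y.isBasis_affineOpens.exists_subset_of_mem_open (Set.mem_univ (f x)) isOpen_univ
  obtain ⟨_, ⟨U, hU, rfl⟩, hxU, hUO⟩ := X.isBasis_affineOpens.exists_subset_of_mem_open
    (show x ∈ ((O ⊓ f ⁻¹ᵁ V : X.Opens) : Set X) from ⟨hx, hxV⟩) (O ⊓ f ⁻¹ᵁ V).isOpen
  exact ⟨⟨⟨U, hU⟩, ⟨V, hV⟩, fun y hy => (hUO hy).2⟩, hxU, fun y hy => (hUO hy).1⟩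

end Groth.Agent.NLSheafLib
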