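import Groth.Agent.NLSheafLib.Glue

/-!
# The sheaf `H⁻¹` of the naive cotangent complex of a morphism of schemes
-/

set_option autoImplicit false
set_option backward.isDefEq.respectTransparency false
set_option backward.defeqAttrib.useBackward true
set_option linter.style.haveILetI false
set_option maxHeartbeats 1000000

universe u

open CategoryTheory AlgebraicGeometry Opposite TopologicalSpace

noncomputable section

namespace Groth.Agent.NLSheafLib

open NLCx

variable {X Y : Scheme.{u}} (f : X ⟶ Y)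

/-- Compatible families on the chart pairs inside `W`. -/
def fam (W : X.Opens) : AddSubgroup (∀ p : {p : CP f // (p.U : X.Opens) ≤ W}, p.1.H) where
  carrier := {s | ∀ (q p : CP f) (h : q.Le p) (hp : (p.U : X.Opens) ≤ W), rs h (s ⟨p, hp⟩) = s ⟨q, h.1.trans hp⟩}
  zero_mem' q p h hp := map_zero _
  add_mem' {s t} hs ht q p h hp := by
    show rs h (s ⟨p, hp⟩ + t ⟨p, hp⟩) = s ⟨q, _⟩ + t ⟨q, _⟩
    rw [map_add, hs q p h hp, ht q p h hp]
  neg_mem' {s} hs q p h hp := by
    show rs h (-s ⟨p, hp⟩) = -s ⟨q, _⟩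
    rw [map_neg, hs q p h hp]

variable {f}

/-- The action of functions on compatible families. -/
def famSmul {W : X.Opens} (a : Γ(X, W)) (s : fam f W) : fam f W :=
  ⟨fun p => X.presheaf.map (homOfLE p.2).op a • s.1 p, fun q p h hp => by
    show rs h (_ • s.1 ⟨p, hp⟩) = _ • s.1 ⟨q, _⟩
    rw [rs_smul, s.2 q p h hp]
    congr 1
    exact map_comp_homOfLE hp h.1 a⟩

instance (W : X.Opens) : Module Γ(X, W) (fam f W) where
  smul := famSmul
  one_smul s := Subtype.ext (funext fun ⟨p, hp⟩ => by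
    show X.presheaf.map (homOfLE hp).op (1 : Γ(X, W)) • s.1 ⟨p, hp⟩ = s.1 ⟨p, hp⟩
    rw [map_one, one_smul])
  mul_smul a b s := Subtype.ext (funext fun ⟨p, hp⟩ => by
    show X.presheaf.map (homOfLE hp).op (a * b) • s.1 ⟨p, hp⟩ = _ • _ • s.1 ⟨p, hp⟩
    rw [map_mul, mul_smul])
  smul_zero a := Subtype.ext (funext fun ⟨p, hp⟩ => smul_zero _)
  smul_add a s t := Subtype.ext (funext fun ⟨p, hp⟩ => smul_add _ _ _)
  add_smul a b s := Subtype.ext (funext fun ⟨p, hp⟩ => by
    show X.presheaf.map (homOfLE hp).op (a + b) • s.1 ⟨p, hp⟩ = _ • s.1 ⟨p, hp⟩ + _ • s.1 ⟨p, hp⟩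
    rw [map_add, add_smul])
  zero_smul s := Subtype.ext (funext fun ⟨p, hp⟩ => by
    show X.presheaf.map (homOfLE hp).op (0 : Γ(X, W)) • s.1 ⟨p, hp⟩ = 0
    rw [map_zero, zero_smul])

variable (f)

/-- The presheaf of compatible families. -/
def famAb : TopCat.Presheaf Ab.{u} X where
  obj W := AddCommGrpCat.of (fam f W.unop)
  map {W W'} i := AddCommGrpCat.ofHom
    { toFun := fun s => ⟨fun p => s.1 ⟨p.1, p.2.trans (leOfHom i.unop)⟩,
        fun q p h hp => s.2 q p h (hp.trans (leOfHom i.unop))⟩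
      map_zero' := rfl
      map_add' := fun _ _ => rfl }
  map_id _ := rfl
  map_comp _ _ := rfl

instance (W : X.Opensᵒᵖ) : Module (X.ringCatSheaf.obj.obj W) ((famAb f).obj W) :=
  inferInstanceAs (Module Γ(X, W.unop) (fam f W.unop))

/-- The presheaf of modules. -/
def famPre : X.PresheafOfModules :=
  PresheafOfModules.ofPresheaf (famAb f) fun W W' i r s => Subtype.ext (funext fun ⟨p, hp⟩ => by
    show X.presheaf.map (homOfLE (hp.trans (leOfHom i.unop))).op r • (show fam f W.unop from s).1 ⟨p, _⟩ =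
      X.presheaf.map (homOfLE hp).op (X.presheaf.map i r) • (show fam f W.unop from s).1 ⟨p, _⟩
    congr 1
    refine Eq.symm ((CommRingCat.comp_apply (X.presheaf.map i) (X.presheaf.map (homOfLE hp).op) r).symm.trans ?_)
    rw [← X.presheaf.map_comp]
    rfl)

theorem famAb_isSheaf : (famAb f).IsSheaf := by
  rw [TopCat.Presheaf.isSheaf_iff_isSheafUniqueGluing]
  intro ι U sf hsf
  let s : ∀ i, fam f (U i) := sf
  have agree : ∀ i j (q : CP f) (hi : (q.U : X.Opens) ≤ U i) (hj : (q.U : X.Opens) ≤ U j),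
      (s i).1 ⟨q, hi⟩ = (s j).1 ⟨q, hj⟩ := fun i j q hi hj =>
    congrArg (fun z : fam f (U i ⊓ U j) => z.1 ⟨q, (le_inf hi hj)⟩) (hsf i j)
  let S : CP f → Prop := fun q => ∃ i, (q.U : X.Opens) ≤ U i
  let t : ∀ q, S q → q.H := fun q hq => (s hq.choose).1 ⟨q, hq.choose_spec⟩
  have hS : ∀ q r : CP f, S q → r.Le q → S r := fun q r ⟨i, hi⟩ h => ⟨i, h.1.trans hi⟩
  have ht : ∀ (q r : CP f) (hq : S q) (h : r.Le q), rs h (t q hq) = t r (hS q r hq h) := fun q r hq h =>
    ((s hq.choose).2 r q h hq.choose_spec).trans (agree _ _ r _ _)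
  have hcov : ∀ (p : CP f), (p.U : X.Opens) ≤ iSup U → ∀ x ∈ (p.U : X.Opens),
      ∃ q : CP f, q.Le p ∧ S q ∧ x ∈ (q.U : X.Opens) := fun p hp x hx => by
    obtain ⟨i, hi⟩ := Opens.mem_iSup.1 (hp hx)
    obtain ⟨g, q, hqg, hqU, hgO, hxg, -, -⟩ := exists_basic_le p (U i) (p.V : Y.Opens) hx hi (p.e hx) le_rfl
    exact ⟨q, hqg.trans (p.basic_le g), ⟨i, hqU.le.trans hgO⟩, hqU.ge hxg⟩
  choose m hm using fun (p : CP f) (hp : (p.U : X.Opens) ≤ iSup U) => glue p S t hS ht (hcov p hp)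
  refine ⟨(⟨fun p => m p.1 p.2, fun q p h hp => sep q _ _ fun x hx => ?_⟩ : fam f (iSup U)), fun i => ?_, fun z hz => ?_⟩
  · obtain ⟨r, hr, hrS, hxr⟩ := hcov q (h.1.trans hp) x hx
    exact ⟨r, hr, hxr, by rw [rs_rs, hm p hp r _ hrS, hm q _ r hr hrS]⟩
  · refine Subtype.ext (funext fun ⟨p, hp⟩ => ?_)
    show m p _ = (s i).1 ⟨p, hp⟩
    have hpS : S p := ⟨i, hp⟩
    have := hm p (hp.trans (le_iSup U i)) p (CP.Le.refl p) hpS
    rw [rs_self] at this
    exact this.trans (agree _ _ p _ _)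
  · refine Subtype.ext (funext fun ⟨p, hp⟩ => ?_)
    show (show fam f (iSup U) from z).1 ⟨p, hp⟩ = m p hp
    refine sep p _ _ fun x hx => ?_
    obtain ⟨r, hr, ⟨i, hi⟩, hxr⟩ := hcov p hp x hx
    refine ⟨r, hr, hxr, ?_⟩
    rw [(show fam f (iSup U) from z).2 r p hr hp, hm p hp r hr ⟨i, hi⟩]
    exact (congrArg (fun w : fam f (U i) => w.1 ⟨r, hi⟩) (hz i)).trans (agree _ _ r _ _)

/-- The sheaf `H⁻¹` of the naive cotangent complex. -/
def h1Mod : X.Modules where
  val := famPre f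
  isSheaf := famAb_isSheaf f

theorem projection_bijective (p : CP f) :
    Function.Bijective fun s : fam f (p.U : X.Opens) => s.1 ⟨p, le_rfl⟩ := by
  constructor
  · intro s t h
    refine Subtype.ext (funext fun ⟨q, hq⟩ => sep q _ _ fun x hx => ?_)
    obtain ⟨r, hrp, hrq, hxr⟩ := exists_common p q (hq hx) hx
    refine ⟨r, hrq, hxr, ?_⟩
    rw [s.2 r q hrq hq, t.2 r q hrq hq, ← s.2 r p hrp le_rfl, ← t.2 r p hrp le_rfl]
    exact congrArg (rs hrp) h
  · intro m
    let S : CP f → Prop := fun q => q.Le p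
    let t : ∀ q, S q → q.H := fun q hq => rs hq m
    have hS : ∀ q r : CP f, S q → r.Le q → S r := fun q r hq h => h.trans hq
    have ht : ∀ (q r : CP f) (hq : S q) (h : r.Le q), rs h (t q hq) = t r (hS q r hq h) := fun q r hq h =>
      rs_rs h hq m
    have hcov : ∀ q : CP f, (q.U : X.Opens) ≤ (p.U : X.Opens) → ∀ x ∈ (q.U : X.Opens),
        ∃ r : CP f, r.Le q ∧ S r ∧ x ∈ (r.U : X.Opens) := fun q hq x hx => by
      obtain ⟨r, hrp, hrq, hxr⟩ := exists_common p q (hq hx) hx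
      exact ⟨r, hrq, hrp, hxr⟩
    choose v hv using fun (q : CP f) (hq : (q.U : X.Opens) ≤ (p.U : X.Opens)) => glue q S t hS ht (hcov q hq)
    refine ⟨⟨fun q => v q.1 q.2, fun r q h hq => sep r _ _ fun x hx => ?_⟩, ?_⟩
    · obtain ⟨r', hr', hr'S, hxr⟩ := hcov r (h.1.trans hq) x hx
      exact ⟨r', hr', hxr, by rw [rs_rs, hv q hq r' _ hr'S, hv r _ r' hr' hr'S]⟩
    · have := hv p le_rfl p (CP.Le.refl p) (CP.Le.refl p)
      rw [rs_self] at this
      exact this.trans (rs_self p m)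

/-- The chart identifications of `h1Mod`. -/
def h1ModData : H1Sheaf f (h1Mod f) where
  iso U V e :=
    let p : CP f := ⟨U, V, e⟩
    AddEquiv.ofBijective
      ({ toFun := fun s : fam f (p.U : X.Opens) => s.1 ⟨p, le_rfl⟩
         map_zero' := rfl
         map_add' := fun _ _ => rfl } : fam f (p.U : X.Opens) →+ p.H)
      (projection_bijective f p)
  map_smul U V e a m := by
    let p : CP f := ⟨U, V, e⟩
    show X.presheaf.map (homOfLE (le_refl (p.U : X.Opens))).op a • (show fam f (U : X.Opens) from m).1 ⟨p, le_rfl⟩ =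
      a • (show fam f (U : X.Opens) from m).1 ⟨p, le_rfl⟩
    congr 1
    exact congrArg (fun φ : Γ(X, (U : X.Opens)) →+* Γ(X, (U : X.Opens)) => φ a) (hom_map_refl X.presheaf (U : X.Opens))
  map_res {U U' V V'} e e' hU hV m := by
    let p : CP f := ⟨U, V, e⟩
    let q : CP f := ⟨U', V', e'⟩
    show (show fam f (U : X.Opens) from m).1 ⟨q, hU⟩ = rs (show q.Le p from ⟨hU, hV⟩) ((show fam f (U : X.Opens) from m).1 ⟨p, le_rfl⟩)
    exact ((show fam f (U : X.Opens) from m).2 q p ⟨hU, hV⟩ le_rfl).symm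

variable {f}

open QCohLib CohBase in
/-- A module with chart identifications with `H¹` is quasi-coherent. -/
theorem isQCoh_of_h1Sheaf {F : X.Modules} (c : H1Sheaf f F) : Coh.IsQCoh F := by
  refine QCohLib.isQCoh_of_locAt F (fun p : CP f => (p.U : X.Opens)) (fun p => p.U.2) ?_ fun p => ?_
  · refine eq_top_iff.2 fun x _ => ?_
    obtain ⟨p, hp, -⟩ := exists_pair f x ⊤ trivial
    exact Opens.mem_iSup.2 ⟨p, hp⟩
  · constructor
    · intro g t
      obtain ⟨n, m, hm⟩ := (res_basicOpen g rfl p.e (p.basic g).e (X.basicOpen_le g)).2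
        (c.iso (p.basic g).U p.V (p.basic g).e t)
      refine ⟨n, (c.iso p.U p.V p.e).symm m, (c.iso (p.basic g).U p.V (p.basic g).e).injective ?_⟩
      refine (c.map_res p.e (p.basic g).e (X.basicOpen_le g) le_rfl _).trans ?_
      rw [AddEquiv.apply_symm_apply]
      refine hm.trans ?_
      exact (c.map_smul (p.basic g).U p.V (p.basic g).e _ t).symm
    · intro g s hs
      have h : chartRes p.e (p.basic g).e (X.basicOpen_le g) le_rfl (c.iso p.U p.V p.e s) = 0 :=
        (c.map_res p.e (p.basic g).e (X.basicOpen_le g) le_rfl s).symm.trans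
          ((congrArg (c.iso (p.basic g).U p.V (p.basic g).e) hs).trans (map_zero _))
      obtain ⟨n, hn⟩ := (res_basicOpen g rfl p.e (p.basic g).e (X.basicOpen_le g)).1 _ h
      refine ⟨n, (c.iso p.U p.V p.e).injective ?_⟩
      refine ((c.map_smul p.U p.V p.e _ s).trans ?_).trans (map_zero _).symm
      refine Eq.trans (congrArg (· • c.iso p.U p.V p.e s) ?_) hn
      exact congrArg (fun φ : Γ(X, (p.U : X.Opens)) →+* Γ(X, (p.U : X.Opens)) => φ (g ^ n))
        (hom_map_refl X.presheaf (p.U : X.Opens))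

end Groth.Agent.NLSheafLib
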